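import Groth.Prelude.Def_ChowOps
import Groth.Agent.CycK0Lib.Twist
import Groth.Agent.CycC1Lib.Degree
import Groth.Agent.IntMultLib.Components
import Groth.Agent.IntMultLib.Positive
import Groth.Agent.IntFunLib.Main
import Groth.Agent.ClassBoundLib.Locus
import Groth.Agent.DiagTorLib.Serre

/-!
# Intersection numbers as degrees of iterated caps with first Chern classes
-/

set_option autoImplicit false
set_option linter.style.haveILetI false
set_option linter.unusedSectionVars false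

universe u

open CategoryTheory CategoryTheory.Limits AlgebraicGeometry TopologicalSpace Opposite
open DevissLib HilbPolyLib
open CycK0Lib (P)

noncomputable section

namespace CycIntLib

variable {k : Type u} [Field k] {X : Scheme.{u}} [X.Over (Spec (CommRingCat.of k))]
  [IsProper (X ↘ Spec (CommRingCat.of k))] {δ : X → ℤ}

theorem exists_dim_bound (k : Type u) [Field k] [X.Over (Spec (CommRingCat.of k))]
    [IsProper (X ↘ Spec (CommRingCat.of k))] : ∃ N : ℕ, topologicalKrullDim X ≤ (N : ℕ) := by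
  obtain ⟨N, hN⟩ := Groth.Agent.ClassBound.exists_dim_bound (X ↘ Spec (CommRingCat.of k))
  refine ⟨N, le_trans (le_of_eq ?_) (hN k (𝟙 _))⟩
  exact (asIso (pullback.fst (X ↘ Spec (CommRingCat.of k)) (𝟙 (Spec (CommRingCat.of k))))).hom.homeomorph.isHomeomorph.topologicalKrullDim_eq.symm

theorem delta_spec (hδ : Cyc.DeltaCompat (X ↘ Spec (CommRingCat.of k)) δ (fun _ => 0)) (x : X) :
    ∃ m : ℕ, δ x = m ∧ topologicalKrullDim ↥(closure ({x} : Set X)) = m := by
  obtain ⟨m, h1, h2⟩ := hδ x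
  refine ⟨m, by simpa using h2, ?_⟩
  rw [← IntMultRegLib.fibreClosureDim_eq (X ↘ Spec (CommRingCat.of k)) x, DimIneqLib.fibreClosureDim_eq_trH,
    DimIneqLib.trH_eq_natCast h1]
  rfl

theorem isClosed_of_delta_zero (hX : Cyc.IsSetup X δ)
    (hδ : Cyc.DeltaCompat (X ↘ Spec (CommRingCat.of k)) δ (fun _ => 0)) {x : X} (hx : δ x = 0) :
    IsClosed ({x} : Set X) := by
  haveI := CurvLib.isNoetherian k (X := X)
  obtain ⟨c, hc, hc'⟩ := IsClosed.exists_closed_singleton (isClosed_closure (s := ({x} : Set X)))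
    ⟨x, subset_closure rfl⟩
  by_cases e : x = c
  · exact e ▸ hc'
  · have h := (hX.2.2 x c (specializes_iff_mem_closure.mpr hc) e).1
    have := CycC1Lib.delta_eq_zero_of_isClosed hδ hc'
    omega

theorem dim_supp_lt (hδ : Cyc.DeltaCompat (X ↘ Spec (CommRingCat.of k)) δ (fun _ => 0)) {F : X.Modules}
    (hF : Coh.IsCoh F) {r : ℕ} (h : ∀ x ∈ CohB1.support F, δ x < r) :
    topologicalKrullDim ↥(CohB1.support F) < (r : ℕ) := by
  refine IntFunLib.dim_lt_of_points (QCohLib.isClosed_support F hF.2) fun y hy => ?_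
  obtain ⟨m, hm, hd⟩ := delta_spec hδ y
  have h' := h y hy
  rw [hd]
  have hlt : m < r := by omega
  exact_mod_cast hlt

theorem dim_supp_le (hδ : Cyc.DeltaCompat (X ↘ Spec (CommRingCat.of k)) δ (fun _ => 0)) {F : X.Modules}
    (hF : Coh.IsCoh F) {r : ℕ} (h : ∀ x ∈ CohB1.support F, δ x ≤ r) :
    topologicalKrullDim ↥(CohB1.support F) ≤ (r : ℕ) :=
  ENat.WithBot.lt_add_one_iff.mp (by
    have h' := dim_supp_lt hδ hF (r := r + 1) fun x hx => by
      have := h x hx
      push_cast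
      omega
    exact_mod_cast h')

theorem intNum_eq_of_support {N d r : ℕ} (hN : topologicalKrullDim X ≤ (N : ℕ)) (M : Fin r → X.Modules)
    (hM : ∀ i, PicF.IsInvertible (M i)) {F : X.Modules} (hF : Coh.IsCoh F)
    (hd : topologicalKrullDim ↥(CohB1.support F) ≤ (d : ℕ)) :
    FGA.intNum k X d M F = FGA.intNum k X N M F := by
  haveI := CurvLib.isNoetherian k (X := X)
  refine Finset.sum_congr rfl fun I _ => ?_
  congr 1
  have hT : PicF.IsInvertible (FGA.tensorList ((I.sort (· ≤ ·)).map M)) := by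
    refine isInvertible_tensorList _ fun A hA => ?_
    obtain ⟨i, -, rfl⟩ := List.mem_map.mp hA
    exact hM i
  rw [eulerCharLE_eq hN, CurvLib.euler_eq_sum (d := d + 1) fun p hp =>
    CurvLib.subsingleton_HH_of_support_dim _ (isCoh_tensor hT hF).2 (d := d)
      (by rw [support_tensor hT]; exact hd) p (by omega)]
  rfl

variable {N : ℕ} (hN : topologicalKrullDim X ≤ (N : ℕ))

include hN in
theorem intNum_add {r : ℕ} {M : Fin r → X.Modules} (hM : ∀ i, PicF.IsInvertible (M i))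
    {S : ShortComplex X.Modules} (hS : S.ShortExact) (h₁ : Coh.IsCoh S.X₁) (h₂ : Coh.IsCoh S.X₂)
    (h₃ : Coh.IsCoh S.X₃) :
    FGA.intNum k X N M S.X₂ = FGA.intNum k X N M S.X₁ + FGA.intNum k X N M S.X₃ := by
  have := hilbFun_add (k := k) (isInvertible_multiTwist M hM) hS h₁ h₂ h₃
  have h : (FGA.intNum k X N M S.X₂ : ℚ) = FGA.intNum k X N M S.X₁ + FGA.intNum k X N M S.X₃ := by
    rw [intNum_eq_cubeSum hN, intNum_eq_cubeSum hN, intNum_eq_cubeSum hN, this, map_add]
  exact_mod_cast h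

variable (k) (N) in
/-- The intersection number on a cycle. -/
def cycNum {r : ℕ} (M : Fin r → X.Modules) (α : X → ℤ) : ℤ :=
  ∑ᶠ ζ, α ζ * FGA.intNum k X N M (Cyc.closureStructureSheaf ζ)

theorem cycle_finite (k : Type u) [Field k] [X.Over (Spec (CommRingCat.of k))]
    [IsProper (X ↘ Spec (CommRingCat.of k))] (α : AlgebraicCycle X ℤ) : (Function.support ⇑α).Finite := by
  haveI := CurvLib.isNoetherian k (X := X)
  choose U hU hf using fun x => α.supportLocallyFiniteWithinDomain' x trivial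
  obtain ⟨T, -, hT⟩ := isCompact_univ.elim_nhds_subcover U fun x _ => hU x
  refine ((T.finite_toSet.biUnion fun x _ => hf x)).subset fun y hy => ?_
  obtain ⟨x, hx, hyx⟩ := Set.mem_iUnion₂.mp (hT (Set.mem_univ y))
  exact Set.mem_biUnion hx ⟨hyx, hy⟩

include hN in
/-- The number of a sheaf is the number of its cycle. -/
theorem intNum_eq_cycNum (hX : Cyc.IsSetup X δ)
    (hδ : Cyc.DeltaCompat (X ↘ Spec (CommRingCat.of k)) δ (fun _ => 0)) {r : ℕ} {M : Fin r → X.Modules}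
    (hM : ∀ i, PicF.IsInvertible (M i)) {F : X.Modules} (hF : P (fun x => δ x ≤ r) F) :
    FGA.intNum k X N M F = cycNum k N M (Cyc.sheafFun δ r F) := by
  haveI : IsLocallyNoetherian X := (CurvLib.isNoetherian k (X := X)).1
  classical
  have hsupp : ∀ ξ, Cyc.sheafFun δ r F ξ ≠ 0 → δ ξ = r ∧ ξ ∈ CohB1.support F := by
    intro ξ h
    unfold Cyc.sheafFun at h
    split_ifs at h with h'
    · refine ⟨h', ?_⟩
      by_contra hn
      have h0 : ((Module.length (X.presheaf.stalk ξ) ((St ξ).obj F)).toNat : ℤ) = 0 := by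
        rw [CycK0Lib.length_stalk_eq_zero hn]
        rfl
      exact h h0
    · exact absurd rfl h
  have hd := dim_supp_le hδ hF.coh fun x hx => hF.supp hx
  rcases (CohB1.support F).eq_empty_or_nonempty with hemp | hne
  · rw [intNum_eq_zero hN M hM F hF.coh (dim_supp_lt hδ hF.coh fun x hx => by
      rw [hemp] at hx; exact absurd hx (Set.notMem_empty x)), cycNum, finsum_eq_zero_of_forall_eq_zero]
    intro ξ
    by_contra h
    have h' := (hsupp ξ (left_ne_zero_of_mul h)).2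
    rw [hemp] at h'
    exact h'
  obtain ⟨T, hT, hsum⟩ := IntMultLib.additive_eq_sum (k := k) (fun G => FGA.intNum k X N M G)
    (fun A B e => intNum_congr hN M e) (fun S hS h₁ h₂ h₃ => intNum_add hN hM hS h₁ h₂ h₃)
    (fun G hG h => intNum_eq_zero hN M hM G hG h)
    (QCohLib.isClosed_support F hF.coh.2) hne hd F hF.coh le_rfl
  have hTδ : ∀ ξ ∈ T, δ ξ = r := fun ξ hξ => by
    obtain ⟨m, hm, hd'⟩ := delta_spec hδ ξ
    have h2 := ((hT ξ).mp hξ).2
    rw [hd'] at h2
    have : m = r := by exact_mod_cast h2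
    omega
  rw [hsum, cycNum, finsum_eq_sum_of_support_subset _ (s := T) fun ξ hξ => ?_]
  · refine Finset.sum_congr rfl fun ξ hξ => ?_
    rw [nsmul_eq_mul, Cyc.sheafFun, if_pos (hTδ ξ hξ)]
    rfl
  · obtain ⟨h1, h2⟩ := hsupp ξ (left_ne_zero_of_mul hξ)
    obtain ⟨m, hm, hd'⟩ := delta_spec hδ ξ
    refine Finset.mem_coe.mpr ((hT ξ).mpr ⟨h2, ?_⟩)
    rw [hd']
    have : m = r := by omega
    subst this
    rfl

theorem sheafFun_tensor (K : ℤ) {A : X.Modules} (hA : PicF.IsInvertible A) (F : X.Modules) :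
    Cyc.sheafFun δ K (CohB1.tensorMod A F) = Cyc.sheafFun δ K F := by
  funext x
  obtain ⟨e⟩ := CurvLib.nonempty_stalk_tensor_locFree (CurvLib.locFree_of_isInvertible hA) F x
  have h : Module.length (X.presheaf.stalk x) ((St x).obj (CohB1.tensorMod A F)) =
      Module.length (X.presheaf.stalk x) ((St x).obj F) :=
    ((St x).mapIso (swapIso A F)).toLinearEquiv.length_eq.trans
      (e.trans (LinearEquiv.funUnique (Fin 1) _ _)).length_eq
  unfold Cyc.sheafFun
  split_ifs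
  · exact congrArg (fun t : ℕ∞ => ((t.toNat : ℕ) : ℤ)) h
  · rfl

theorem c1Cap_mem_Zk {L : X.Modules} {α : X → ℤ} {K : ℤ} (hα : ∀ x, δ x ≠ K + 1 → α x = 0)
    (s : (ξ : X) → Cyc.secFibre L ξ) {x : X} (hx : δ x ≠ K) : Cyc.c1CapFun δ L α s x = 0 := by
  refine finsum_eq_zero_of_forall_eq_zero fun ξ => ?_
  by_cases h : δ ξ = K + 1
  · rw [CycC1Lib.secDivFun_eq_zero_of_not (fun h' => hx (by omega)), mul_zero]
  · rw [hα ξ h, zero_mul]

include hN in
theorem exists_num_hom (hδ : Cyc.DeltaCompat (X ↘ Spec (CommRingCat.of k)) δ (fun _ => 0)) {r : ℕ}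
    {M : Fin r → X.Modules} (hM : ∀ i, PicF.IsInvertible (M i)) :
    ∃ ψ : Cyc.K0CohQuot δ ((r : ℤ) + 1) ((r : ℤ) - 1) →+ ℤ, ∀ F, P (fun x => δ x ≤ (r : ℤ) + 1) F →
      ψ (Cyc.toK0CohQuot δ ((r : ℤ) + 1) ((r : ℤ) - 1) F) = FGA.intNum k X N M F := by
  haveI : IsLocallyNoetherian X := (CurvLib.isNoetherian k (X := X)).1
  have hadd : CycK0Lib.AddOn (fun x => δ x ≤ (r : ℤ) + 1) (fun F : X.Modules => FGA.intNum k X N M F) :=
    ⟨fun S hS h₁ h₂ h₃ => intNum_add hN hM hS h₁.coh h₂.coh h₃.coh⟩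
  obtain ⟨ψ₀, hψ₀⟩ := CycK0Lib.exists_lift hadd
  have hker : AddSubgroup.closure {c : KZero.K0sub (Cyc.CohLe δ ((r : ℤ) + 1)) |
      ∃ F : X.Modules, Cyc.CohLe δ ((r : ℤ) - 1) F ∧ c = KZero.clSub (Cyc.CohLe δ ((r : ℤ) + 1)) F} ≤ ψ₀.ker := by
    rw [AddSubgroup.closure_le]
    rintro _ ⟨F, hF, rfl⟩
    have hF' : P (fun x => δ x ≤ (r : ℤ) - 1) F := hF
    refine (hψ₀ F (hF'.mono' fun x h => by omega)).trans ?_
    exact intNum_eq_zero hN M hM F hF'.coh (dim_supp_lt hδ hF'.coh fun x hx => by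
      have := hF'.supp hx
      omega)
  exact ⟨QuotientAddGroup.lift _ ψ₀ hker, fun F hF => hψ₀ F hF⟩

include hN in
/-- One step: a number with one more invertible module is the number on the cap. -/
theorem intNum_cons_eq (hX : Cyc.IsSetup X δ)
    (hδ : Cyc.DeltaCompat (X ↘ Spec (CommRingCat.of k)) δ (fun _ => 0)) {r : ℕ} {M : Fin r → X.Modules}
    (hM : ∀ i, PicF.IsInvertible (M i)) {A L : X.Modules} (hL : PicF.IsInvertible L)
    (e : CohB1.tensorMod A L ≅ Coh.structureModule X) {F : X.Modules} (hF : P (fun x => δ x ≤ (r : ℤ) + 1) F)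
    {s : (ξ : X) → Cyc.secFibre L ξ} (hs : ∀ ξ, s ξ ≠ 0) (γ : AlgebraicCycle X ℤ)
    (hγ : ⇑γ = Cyc.c1CapFun δ L (Cyc.sheafFun δ ((r : ℤ) + 1) F) s) :
    FGA.intNum k X N (Fin.cons A M) F = cycNum k N M ⇑γ := by
  classical
  haveI := hX.1
  have hA : PicF.IsInvertible A := IntMultLib.isInvertible_of_inverse hL (swapIso L A ≪≫ e)
  let F' := CohB1.tensorMod A F
  have hF' : P (fun x => δ x ≤ (r : ℤ) + 1) F' := CycK0Lib.P.tensor hA hF
  have hγk : γ ∈ Cyc.Zk X δ r := fun x hx => by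
    rw [hγ]
    exact c1Cap_mem_Zk (K := r) (fun y hy => by unfold Cyc.sheafFun; rw [if_neg hy]) s hx
  have key := CycK0Lib.twist_eq (k := (r : ℤ)) hX hL hF' s hs γ hγk (by rw [hγ, sheafFun_tensor _ hA])
  obtain ⟨ψ, hψ⟩ := exists_num_hom hN hδ hM
  obtain ⟨hp, hpf⟩ := CycK0Lib.cycleSheafPos_spec hX γ hγk
  obtain ⟨hn, hnf⟩ := CycK0Lib.cycleSheafNeg_spec hX γ hγk
  have e2 : CohB1.tensorMod F' L ≅ F :=
    swapIso F' L ≪≫ (assocIso L A F).symm ≪≫ congrLeft (swapIso L A ≪≫ e) F ≪≫ unitLeft F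
  have h1 := congrArg ψ key
  rw [map_sub, map_sub, hψ _ ((hF.of_iso e2.symm)), hψ _ hF', hψ _ (hp.mono' fun x h => by omega),
    hψ _ (hn.mono' fun x h => by omega), intNum_congr hN M e2] at h1
  rw [intNum_cons hN, h1, intNum_eq_cycNum hN hX hδ hM hp, intNum_eq_cycNum hN hX hδ hM hn]
  have hfin := cycle_finite k γ
  simp only [cycNum]
  rw [← finsum_sub_distrib (hfin.subset fun x hx h0 => hx (by simp [hpf x, h0]))
    (hfin.subset fun x hx h0 => hx (by simp [hnf x, h0]))]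
  refine finsum_congr fun x => ?_
  rw [hpf, hnf, ← sub_mul]
  congr 1
  omega

include hN in
/-- The number on a cycle with one more invertible module. -/
theorem cycNum_cons (hX : Cyc.IsSetup X δ)
    (hδ : Cyc.DeltaCompat (X ↘ Spec (CommRingCat.of k)) δ (fun _ => 0)) {r : ℕ} {M : Fin r → X.Modules}
    (hM : ∀ i, PicF.IsInvertible (M i)) {A L : X.Modules} (hL : PicF.IsInvertible L)
    (e : CohB1.tensorMod A L ≅ Coh.structureModule X) (α : AlgebraicCycle X ℤ)
    (hα : α ∈ Cyc.Zk X δ ((r : ℤ) + 1)) {s : (ξ : X) → Cyc.secFibre L ξ} (hs : ∀ ξ, s ξ ≠ 0) :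
    cycNum k N (Fin.cons A M) ⇑α = cycNum k N M (Cyc.c1CapFun δ L ⇑α s) := by
  classical
  haveI := hX.1
  let S := (cycle_finite k α).toFinset
  have hS : ∀ ζ, α ζ ≠ 0 → ζ ∈ S := fun ζ h => (cycle_finite k α).mem_toFinset.mpr h
  have hδS : ∀ ζ ∈ S, δ ζ = (r : ℤ) + 1 := fun ζ h => by
    by_contra hne
    exact (cycle_finite k α).mem_toFinset.mp h (hα ζ hne)
  have hone : ∀ ζ ∈ S, ∃ T : Finset X, (∀ x, Cyc.secDivFun δ L ζ (s ζ) x ≠ 0 → x ∈ T) ∧
      FGA.intNum k X N (Fin.cons A M) (Cyc.closureStructureSheaf ζ) =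
        ∑ x ∈ T, Cyc.secDivFun δ L ζ (s ζ) x * FGA.intNum k X N M (Cyc.closureStructureSheaf x) := by
    intro ζ hζ
    have hP := CycK0Lib.closure_P (k := (r : ℤ) + 1) hX (hδS ζ hζ).le
    obtain ⟨β, hβ, eβ⟩ := CycK0Lib.exists_cycle_sheafFun hX hP
    let γ := CycC1Lib.capCyc hX hL β hs
    have hγ : ⇑γ = Cyc.c1CapFun δ L (Cyc.sheafFun δ ((r : ℤ) + 1) (Cyc.closureStructureSheaf ζ)) s := by
      show Cyc.c1CapFun δ L ⇑β s = _
      rw [eβ]
    have hγx : ∀ x, γ x = Cyc.secDivFun δ L ζ (s ζ) x := fun x => by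
      rw [hγ, Cyc.c1CapFun]
      show ∑ᶠ ξ, _ = _
      rw [finsum_eq_single _ ζ fun ξ hξ => ?_]
      · rw [Cyc.sheafFun, if_pos (hδS ζ hζ)]
        show ((Module.length (X.presheaf.stalk ζ) ((St ζ).obj (Cyc.closureStructureSheaf ζ))).toNat : ℤ) * _ = _
        rw [CycK0Lib.closure_length]
        simp
      · unfold Cyc.sheafFun
        split_ifs with hξ'
        · show ((Module.length (X.presheaf.stalk ξ) ((St ξ).obj (Cyc.closureStructureSheaf ζ))).toNat : ℤ) * _ = _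
          rw [CycK0Lib.sheafFun_closure hξ' hX (hδS ζ hζ), if_neg (Ne.symm hξ)]
          simp
        · rw [zero_mul]
    refine ⟨(cycle_finite k γ).toFinset, fun x hx => (cycle_finite k γ).mem_toFinset.mpr
      (by rw [Function.mem_support, hγx]; exact hx), ?_⟩
    rw [intNum_cons_eq hN hX hδ hM hL e hP hs γ hγ, cycNum,
      finsum_eq_sum_of_support_subset _ (s := (cycle_finite k γ).toFinset) fun x hx =>
        Finset.mem_coe.mpr ((cycle_finite k γ).mem_toFinset.mpr (left_ne_zero_of_mul hx))]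
    exact Finset.sum_congr rfl fun x _ => by rw [hγx]
  choose! T hT hsum using hone
  let U := S.biUnion T
  have hU : ∀ x, Cyc.c1CapFun δ L ⇑α s x = ∑ ζ ∈ S, α ζ * Cyc.secDivFun δ L ζ (s ζ) x := fun x =>
    finsum_eq_sum_of_support_subset _ fun ζ hζ => Finset.mem_coe.mpr (hS ζ (left_ne_zero_of_mul hζ))
  simp only [cycNum]
  rw [finsum_eq_sum_of_support_subset (fun ζ => α ζ * _) (s := S) fun ζ hζ =>
      Finset.mem_coe.mpr (hS ζ (left_ne_zero_of_mul hζ)),
    finsum_eq_sum_of_support_subset _ (s := U) fun x hx => ?_]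
  · simp only [hU, Finset.sum_mul]
    rw [Finset.sum_comm]
    refine Finset.sum_congr rfl fun ζ hζ => ?_
    rw [hsum ζ hζ, Finset.mul_sum]
    refine (Finset.sum_subset (Finset.subset_biUnion_of_mem T hζ) fun x _ hx => ?_).trans
      (Finset.sum_congr rfl fun x _ => (mul_assoc _ _ _).symm)
    by_contra h
    exact hx (hT ζ hζ x (left_ne_zero_of_mul (right_ne_zero_of_mul h)))
  · have h := left_ne_zero_of_mul hx
    rw [hU] at h
    obtain ⟨ζ, hζ, hne⟩ := Finset.exists_ne_zero_of_sum_ne_zero h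
    exact Finset.mem_coe.mpr (Finset.mem_biUnion.mpr ⟨ζ, hζ, hT ζ hζ x (right_ne_zero_of_mul hne)⟩)

include hN in
/-- The Euler characteristic of a closed point. -/
theorem intNum_zero_closed (hX : Cyc.IsSetup X δ)
    (hδ : Cyc.DeltaCompat (X ↘ Spec (CommRingCat.of k)) δ (fun _ => 0)) (M : Fin 0 → X.Modules) {x : X}
    (hx : δ x = 0) :
    FGA.intNum k X N M (Cyc.closureStructureSheaf x) = ((X ↘ Spec (CommRingCat.of k)).residueDegree x : ℤ) := by
  classical
  haveI := hX.1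
  haveI := CurvLib.isNoetherian k (X := X)
  let G := Cyc.closureStructureSheaf x
  have hG : Coh.IsCoh G := (CycK0Lib.closure_P (k := 0) hX hx.le).coh
  have hc := isClosed_of_delta_zero hX hδ hx
  have hGs : CohB1.support G ⊆ {x} := (CycK0Lib.closure_support x).trans hc.closure_eq.le
  have h0 : FGA.intNum k X N M G = Curv2.euler k X G := by
    simp only [FGA.intNum, Finset.univ_unique, Finset.sum_singleton]
    rw [show (default : Finset (Fin 0)) = ∅ from Subsingleton.elim _ _]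
    simp only [Finset.card_empty, pow_zero, one_mul, Finset.sort_empty, List.map_nil, FGA.tensorList]
    rw [eulerCharLE_eq hN]
    exact CurvLib.euler_congr (unitLeft G)
  haveI : Module.Finite k (Coh.HH X G 0) := CurvLib.finite_HH (k := k) hG 0
  have hfin := CurvLib.finite_stalk (k := k) G (Set.finite_singleton x)
    (fun y hy => by obtain rfl := hy; exact hc) hGs
  have hd : topologicalKrullDim ↥({x} : Set X) ≤ 0 :=
    topologicalKrullDim_zero_of_discreteTopology _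
  rw [h0, CurvLib.euler_eq_sum_stalks G (Set.finite_singleton x) hc hd hGs hfin,
    Set.toFinite_toFinset, Set.toFinset_singleton, Finset.sum_singleton,
    CycC1Lib.residueDegree_eq_resDeg, CurvLib.stalkDim]
  letI : Algebra k (X.presheaf.stalk x) := Curv2.stalkAlgebra k X x
  letI := CurvLib.stalkModule (k := k) G x
  haveI : IsScalarTower k (X.presheaf.stalk x) ((St x).obj G) := DetDegLib.tower_stalk k G x
  haveI := hfin x
  rw [(DetDegLib.finrank_tower k (R := X.presheaf.stalk x) (M := (St x).obj G)).2]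
  show (((Module.length (X.presheaf.stalk x) ((St x).obj (Cyc.closureStructureSheaf x))).toNat * _ : ℕ) : ℤ) = _
  rw [CycK0Lib.closure_length]
  simp

include hN in
theorem deg_eq_cycNum (hX : Cyc.IsSetup X δ)
    (hδ : Cyc.DeltaCompat (X ↘ Spec (CommRingCat.of k)) δ (fun _ => 0)) (M : Fin 0 → X.Modules)
    (α : AlgebraicCycle X ℤ) (hα : α ∈ Cyc.Zk X δ 0) :
    ChowOps.deg (X ↘ Spec (CommRingCat.of k)) δ α = cycNum k N M ⇑α := by
  classical
  rw [ChowOps.deg, AlgebraicCycle.map, Function.locallyFinsupp.map_apply, cycNum]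
  refine finsum_congr fun x => ?_
  have hmem : x ∈ (⇑(X ↘ Spec (CommRingCat.of k))) ⁻¹'
      {(IsLocalRing.closedPoint k : ↥(Spec (CommRingCat.of k)))} :=
    Subsingleton.elim (α := PrimeSpectrum k) _ _
  refine (finsum_eq_if ..).trans ((if_pos hmem).trans ?_)
  by_cases hx : δ x = 0
  · rw [AlgebraicCycle.mapCoeff, if_pos hx, intNum_zero_closed hN hX hδ M hx]
  · rw [hα x hx, zero_mul, zero_mul]

include hN in
theorem cycNum_iterate (hX : Cyc.IsSetup X δ)
    (hδ : Cyc.DeltaCompat (X ↘ Spec (CommRingCat.of k)) δ (fun _ => 0)) :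
    ∀ {r : ℕ} (M L : Fin r → X.Modules), (∀ i, PicF.IsInvertible (L i)) →
      (∀ i, Nonempty (CohB1.tensorMod (M i) (L i) ≅ Coh.structureModule X)) →
      ∀ (s : (i : Fin r) → (ξ : X) → Cyc.secFibre (L i) ξ), (∀ i ξ, s i ξ ≠ 0) →
      ∀ (γ : ℕ → X → ℤ) (α₀ α : AlgebraicCycle X ℤ), α₀ ∈ Cyc.Zk X δ (r : ℤ) → γ 0 = ⇑α₀ →
        (∀ (i : ℕ) (h : i < r), γ (i + 1) = Cyc.c1CapFun δ (L ⟨i, h⟩) (γ i) (s ⟨i, h⟩)) → ⇑α = γ r →
        cycNum k N M (γ 0) = ChowOps.deg (X ↘ Spec (CommRingCat.of k)) δ α := by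
  intro r
  induction r with
  | zero =>
    intro M L _ _ s _ γ α₀ α hα₀ h0 _ hα
    have : α = α₀ := DFunLike.coe_injective (hα.trans h0)
    subst this
    rw [deg_eq_cycNum hN hX hδ M α (by simpa using hα₀), h0]
  | succ r ih =>
    intro M L hL he s hs γ α₀ α hα₀ h0 hstep hα
    have hM : ∀ i, PicF.IsInvertible (M i) := fun i =>
      IntMultLib.isInvertible_of_inverse (hL i) (swapIso _ _ ≪≫ (he i).some)
    let α₁ := CycC1Lib.capCyc hX (hL 0) α₀ (hs 0)
    have h1 : γ 1 = ⇑α₁ := by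
      rw [hstep 0 (Nat.succ_pos r), h0]
      rfl
    have hα₁ : α₁ ∈ Cyc.Zk X δ (r : ℤ) := fun x hx =>
      c1Cap_mem_Zk (K := (r : ℤ)) (fun y hy => hα₀ y (by push_cast; exact hy)) (s 0) hx
    have hcons : Fin.cons (M 0) (fun i => M i.succ) = M := Fin.cons_self_tail M
    rw [h0, ← hcons, cycNum_cons hN hX hδ (fun i => hM i.succ) (hL 0) (he 0).some α₀ (by simpa using hα₀) (hs 0)]
    exact (congrArg _ h1.symm).trans (ih (fun i => M i.succ) (fun i => L i.succ) (fun i => hL i.succ)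
      (fun i => he i.succ) (fun i => s i.succ) (fun i => hs i.succ) (fun i => γ (i + 1)) α₁ α hα₁ h1
      (fun i h => hstep (i + 1) (Nat.succ_lt_succ h)) hα)

end CycIntLib

end
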